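import Groth.Agent.Lib.Helper39.HT.Torsion
import Groth.Agent.Lib.Helper39.GMD.RepKill

/-!
# Element-level API for `Dual2.HDT` (helper39)

`Dual2.HDT A T K i = colim_{V(J) ⊆ T} Hom_{D(A)}(A/J, K[i])`.
-/

set_option autoImplicit false
universe u

namespace Groth.Agent.Lib.Helper39.HDT

open CategoryTheory CategoryTheory.Limits CategoryTheory.Pretriangulated DerivedCategory Opposite
open Groth.Agent.Lib.Helper39.HT

attribute [local instance] HasDerivedCategory.standard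

variable {A : Type u} [CommRing A] (T : Set (PrimeSpectrum A))

/-- the diagram `J ↦ (A/J)[0]` -/
noncomputable abbrev Sd : Idx T ⥤ Dual.D A :=
  localCohomology.ringModIdeals (Dual2.idealsInDiagram T) ⋙
    DerivedCategory.singleFunctor (ModuleCat.{u} A) 0

/-- the diagram whose colimit is `Dual2.HDT A T K i` -/
noncomputable abbrev hdtDiag (K : Dual.D A) (i : ℤ) : (Idx T)ᵒᵖ ⥤ ModuleCat.{u + 1} A :=
  (Sd T).op ⋙ (linearYoneda A (Dual.D A)).obj (K⟦i⟧)

theorem presForget (F : (Idx T)ᵒᵖ ⥤ ModuleCat.{u + 1} A) :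
    PreservesColimit F (forget (ModuleCat.{u + 1} A)) := by
  haveI : PreservesFilteredColimitsOfSize.{u, u} (forget AddCommGrpCat.{u + 1}) :=
    preservesFilteredColimitsOfSize_shrink.{u, u + 1, u, u + 1} _
  haveI : PreservesColimitsOfShape (Idx T)ᵒᵖ (forget AddCommGrpCat.{u + 1}) :=
    PreservesFilteredColimitsOfSize.preserves_filtered_colimits (Idx T)ᵒᵖ
  haveI : PreservesColimit F (forget₂ (ModuleCat.{u + 1} A) AddCommGrpCat.{u + 1} ⋙
      forget AddCommGrpCat.{u + 1}) := inferInstance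
  exact this

/-- the class of a representative -/
noncomputable def mk {K : Dual.D A} {i : ℤ} (J : Idx T) (φ : (Sd T).obj J ⟶ K⟦i⟧) :
    Dual2.HDT A T K i :=
  (colimit.ι (hdtDiag T K i) (op J)).hom φ

theorem exists_rep {K : Dual.D A} {i : ℤ} (x : Dual2.HDT A T K i) :
    ∃ (J : Idx T) (φ : (Sd T).obj J ⟶ K⟦i⟧), mk T J φ = x := by
  haveI := presForget T (hdtDiag T K i)
  obtain ⟨j, y, hy⟩ := Concrete.colimit_exists_rep (hdtDiag T K i) x
  exact ⟨j.unop, y, hy⟩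

theorem mk_map {K : Dual.D A} {i : ℤ} {J J' : Idx T} (g : J' ⟶ J) (φ : (Sd T).obj J ⟶ K⟦i⟧) :
    mk T J' ((Sd T).map g ≫ φ) = mk T J φ := by
  have h8 := congrArg (fun F => F.hom φ) (colimit.w (hdtDiag T K i) g.op)
  simp only [ModuleCat.hom_comp, LinearMap.comp_apply] at h8
  exact h8

theorem mk_add {K : Dual.D A} {i : ℤ} (J : Idx T) (φ ψ : (Sd T).obj J ⟶ K⟦i⟧) :
    mk T J (φ + ψ) = mk T J φ + mk T J ψ := map_add _ _ _

theorem mk_smul {K : Dual.D A} {i : ℤ} (J : Idx T) (a : A) (φ : (Sd T).obj J ⟶ K⟦i⟧) :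
    mk T J (a • φ) = a • mk T J φ := map_smul _ _ _

theorem mk_zero {K : Dual.D A} {i : ℤ} (J : Idx T) :
    mk T J (0 : (Sd T).obj J ⟶ K⟦i⟧) = 0 := map_zero _

theorem mk_eq_zero_iff {K : Dual.D A} {i : ℤ} (J : Idx T) (φ : (Sd T).obj J ⟶ K⟦i⟧) :
    mk T J φ = 0 ↔ ∃ (J' : Idx T) (g : J' ⟶ J), (Sd T).map g ≫ φ = 0 := by
  constructor
  · intro h
    haveI := presForget T (hdtDiag T K i)
    let x0 : (hdtDiag T K i).obj (op J) := φ
    have h' : (colimit.ι (hdtDiag T K i) (op J)) x0 =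
        (colimit.ι (hdtDiag T K i) (op J)) (0 : (hdtDiag T K i).obj (op J)) := by
      rw [map_zero]
      exact h
    obtain ⟨k, f, g, hfg⟩ := (Concrete.colimit_rep_eq_iff_exists (hdtDiag T K i) x0
      (0 : (hdtDiag T K i).obj (op J))).1 h'
    refine ⟨k.unop, f.unop, ?_⟩
    have h0 : ((hdtDiag T K i).map g) (0 : (hdtDiag T K i).obj (op J)) = 0 := map_zero _
    rw [h0] at hfg
    exact hfg
  · rintro ⟨J', g, hg⟩
    rw [← mk_map T g φ, hg, mk_zero]

end Groth.Agent.Lib.Helper39.HDT
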