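import Groth.Agent.Lib.Helper39.HDT.Exact
import Groth.Agent.Lib.Helper39.HT.H0

/-!
# Comparison `Dual2.HDT A T M[0] i ↪ H^i_T(M)` (helper39)
-/

set_option autoImplicit false
universe u

namespace Groth.Agent.Lib.Helper39.HDT

open CategoryTheory CategoryTheory.Limits DerivedCategory Opposite
open Groth.Agent.Lib.Helper39.HT (Idx Q proj HTf)

attribute [local instance] HasDerivedCategory.standard

variable {A : Type u} [CommRing A] (T : Set (PrimeSpectrum A)) (i : ℕ) (M : ModuleCat.{u} A)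

/-- the target shifted object -/
noncomputable abbrev tgt : Dual.D A :=
  ((DerivedCategory.singleFunctor (ModuleCat.{u} A) 0).obj M)⟦(i : ℤ)⟧

/-- `Ext^i(A/J, M) ≃ Hom_{D(A)}(A/J, M[i])` -/
noncomputable abbrev hle (J : Idx T) : Abelian.Ext.{u} (Q T J) M i ≃ₗ[A]
    ((DerivedCategory.singleFunctor (ModuleCat.{u} A) 0).obj (Q T J) ⟶ tgt i M) :=
  Abelian.Ext.homLinearEquiv (R := A)

theorem hle_proj {J K : Idx T} (h : K.obj ≤ J.obj) (x : Abelian.Ext.{u} (Q T J) M i) :
    hle T i M K ((Abelian.Ext.mk₀ (proj h)).comp x (zero_add i)) =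
      (DerivedCategory.singleFunctor (ModuleCat.{u} A) 0).map (proj h) ≫ hle T i M J x := by
  change ((Abelian.Ext.mk₀ (proj h)).comp x (zero_add i)).hom = _
  rw [Abelian.Ext.comp_hom, Abelian.Ext.mk₀_hom, ShiftedHom.mk₀_comp]
  rfl

/-- the legs of the cocone -/
noncomputable def legH (J : Idx T) :
    ((DerivedCategory.singleFunctor (ModuleCat.{u} A) 0).obj (Q T J) ⟶ tgt i M) →ₗ[A]
      ULift.{u + 1} ((HTf T i).obj M) :=
  ULift.moduleEquiv.symm.toLinearMap ∘ₗ Groth.Agent.Lib.Helper39.HT.mkLin T i J ∘ₗ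
    (hle T i M J).symm.toLinearMap

theorem legH_apply (J : Idx T)
    (φ : (DerivedCategory.singleFunctor (ModuleCat.{u} A) 0).obj (Q T J) ⟶ tgt i M) :
    (legH T i M J φ).down = Groth.Agent.Lib.Helper39.HT.mk T i J ((hle T i M J).symm φ) := rfl

theorem legH_proj {J K : Idx T} (h : K.obj ≤ J.obj)
    (φ : (DerivedCategory.singleFunctor (ModuleCat.{u} A) 0).obj (Q T J) ⟶ tgt i M) :
    legH T i M K ((DerivedCategory.singleFunctor (ModuleCat.{u} A) 0).map (proj h) ≫ φ) =
      legH T i M J φ := by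
  apply ULift.ext
  rw [legH_apply, legH_apply]
  have h1 : (hle T i M K).symm
      ((DerivedCategory.singleFunctor (ModuleCat.{u} A) 0).map (proj h) ≫ φ) =
      (Abelian.Ext.mk₀ (proj h)).comp ((hle T i M J).symm φ) (zero_add i) := by
    apply (hle T i M K).injective
    rw [LinearEquiv.apply_symm_apply, hle_proj, LinearEquiv.apply_symm_apply]
  rw [h1, Groth.Agent.Lib.Helper39.HT.mk_proj]

/-- the cocone with point `H^i_T(M)` -/
noncomputable def coconeH :
    Cocone (hdtDiag T ((DerivedCategory.singleFunctor (ModuleCat.{u} A) 0).obj M) i) where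
  pt := ModuleCat.of A (ULift.{u + 1} ((HTf T i).obj M))
  ι :=
    { app := fun j => ModuleCat.ofHom (legH T i M j.unop)
      naturality := by
        intro j k w
        ext φ
        have hle' : k.unop.obj ≤ j.unop.obj := Idx.le_of_hom w.unop
        exact legH_proj T i M hle' φ }

/-- the comparison map -/
noncomputable def cmpH :
    Dual2.HDT A T ((DerivedCategory.singleFunctor (ModuleCat.{u} A) 0).obj M) i →ₗ[A]
      ULift.{u + 1} ((HTf T i).obj M) :=
  (colimit.desc _ (coconeH T i M)).hom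

theorem cmpH_mk (J : Idx T)
    (φ : (DerivedCategory.singleFunctor (ModuleCat.{u} A) 0).obj (Q T J) ⟶ tgt i M) :
    cmpH T i M (mk T J φ) = legH T i M J φ := by
  have := colimit.ι_desc (coconeH T i M) (op J)
  exact congrArg (fun g => g.hom φ) this

theorem cmpH_injective : Function.Injective (cmpH T i M) := by
  rw [← LinearMap.ker_eq_bot, LinearMap.ker_eq_bot']
  intro x hx
  obtain ⟨J, φ, rfl⟩ := exists_rep T x
  rw [cmpH_mk] at hx
  have h1 : Groth.Agent.Lib.Helper39.HT.mk T i J ((hle T i M J).symm φ) = 0 := by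
    rw [← legH_apply, hx]
    rfl
  obtain ⟨K, hK, h2⟩ := (Groth.Agent.Lib.Helper39.HT.mk_eq_zero_iff T i _).1 h1
  have h3 : (DerivedCategory.singleFunctor (ModuleCat.{u} A) 0).map (proj hK) ≫ φ = 0 := by
    have := congrArg (hle T i M K) h2
    rw [hle_proj, LinearEquiv.apply_symm_apply, map_zero] at this
    exact this
  rw [mk_eq_zero_iff]
  exact ⟨K, Idx.homOfLE hK, h3⟩

/-- `H^i_T(M[0]) ↪ H^i_T(M)` -/
noncomputable def cmp :
    Dual2.HDT A T ((DerivedCategory.singleFunctor (ModuleCat.{u} A) 0).obj M) i →ₗ[A]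
      (HTf T i).obj M :=
  (ULift.moduleEquiv : ULift.{u + 1} ((HTf T i).obj M) ≃ₗ[A] (HTf T i).obj M).toLinearMap ∘ₗ
    cmpH T i M

theorem cmp_injective : Function.Injective (cmp T i M) :=
  (ULift.moduleEquiv : ULift.{u + 1} ((HTf T i).obj M) ≃ₗ[A]
    (HTf T i).obj M).injective.comp (cmpH_injective T i M)

end Groth.Agent.Lib.Helper39.HDT
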