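import Groth.Agent.Lib.Helper39.HDT.Single
import Mathlib.Algebra.Homology.DerivedCategory.HomologySequence
import Mathlib.Algebra.Homology.DerivedCategory.Linear

/-!
# The cone of multiplication by `f` on an object of `D(A)` (helper39)
-/

set_option autoImplicit false
universe u

namespace Groth.Agent.Lib.Helper39.HDT

open CategoryTheory CategoryTheory.Limits CategoryTheory.Pretriangulated DerivedCategory Opposite

attribute [local instance] HasDerivedCategory.standard

variable {A : Type u} [CommRing A]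

theorem homologyMap_smul_id' (P : CochainComplex (ModuleCat.{u} A) ℤ) (f : A) (i : ℤ) :
    HomologicalComplex.homologyMap (f • 𝟙 P) i = f • 𝟙 (P.homology i) := by
  have h : (HomologicalComplex.shortComplexFunctor (ModuleCat.{u} A) (ComplexShape.up ℤ) i).map
      (f • 𝟙 P) = f • 𝟙 (P.sc i) := by
    ext x <;> rfl
  change ShortComplex.homologyMap _ = _
  rw [h, ShortComplex.homologyMap_smul, ShortComplex.homologyMap_id]
  rfl

theorem homologyFunctor_map_smul_id_apply (K : Dual.D A) (f : A) (i : ℤ) (x : Dual.HD A K i) :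
    ((homologyFunctor (ModuleCat.{u} A) i).map (f • 𝟙 K)).hom x = f • x := by
  let P := Q.objPreimage K
  let e : Q.obj P ≅ K := Q.objObjPreimageIso K
  have h1 : f • 𝟙 K = e.inv ≫ Q.map (f • 𝟙 P) ≫ e.hom := by
    rw [Functor.map_smul, CategoryTheory.Functor.map_id, Linear.smul_comp, Linear.comp_smul,
      Category.id_comp, e.inv_hom_id]
  have nat := (homologyFunctorFactors (ModuleCat.{u} A) i).hom.naturality (f • 𝟙 P)
  have h2 : ∀ y : Dual.HD A (Q.obj P) i,
      ((homologyFunctor (ModuleCat.{u} A) i).map (Q.map (f • 𝟙 P))).hom y = f • y := by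
    intro y
    have hinj : Function.Injective
        ((homologyFunctorFactors (ModuleCat.{u} A) i).hom.app P).hom :=
      ((homologyFunctorFactors (ModuleCat.{u} A) i).app P).toLinearEquiv.injective
    apply hinj
    have h3 := congrArg (fun F => F.hom y) nat
    simp only [ModuleCat.hom_comp, LinearMap.comp_apply, Functor.comp_map] at h3
    rw [h3, map_smul]
    change (HomologicalComplex.homologyMap (f • 𝟙 P) i).hom _ = _
    rw [homologyMap_smul_id']
    rfl
  rw [h1, Functor.map_comp, Functor.map_comp]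
  simp only [ModuleCat.hom_comp, LinearMap.comp_apply]
  rw [h2, map_smul]
  congr 1
  have h4 := congrArg (fun F => F.hom x)
    (((homologyFunctor (ModuleCat.{u} A) i).mapIso e).inv_hom_id)
  simp only [ModuleCat.hom_comp, LinearMap.comp_apply, Functor.mapIso_inv, Functor.mapIso_hom,
    ModuleCat.hom_id, LinearMap.id_apply] at h4
  exact h4

variable [IsNoetherianRing A] {K Z : Dual.D A} {f : A} {g : K ⟶ Z} {h : Z ⟶ K⟦(1 : ℤ)⟧}
  (hT : Triangle.mk (f • 𝟙 K) g h ∈ distTriang (Dual.D A))

include hT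

theorem cone_exact₃ (i j : ℤ) (hij : i + 1 = j) (z : Dual.HD A Z i)
    (hz : (HomologySequence.δ (Triangle.mk (f • 𝟙 K) g h) i j hij).hom z = 0) :
    ∃ y : Dual.HD A K i, ((homologyFunctor (ModuleCat.{u} A) i).map g).hom y = z :=
  (ShortComplex.moduleCat_exact_iff _).1 (HomologySequence.exact₃ _ hT i j hij) z hz

theorem cone_isGE (a : ℤ) [K.IsGE a] : Z.IsGE (a - 1) := by
  rw [isGE_iff]
  intro i hi
  have h1 : IsZero ((homologyFunctor (ModuleCat.{u} A) (i + 1)).obj K) :=
    isZero_of_isGE K a (i + 1) (by omega)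
  have h0 : IsZero ((homologyFunctor (ModuleCat.{u} A) i).obj K) :=
    isZero_of_isGE K a i (by omega)
  haveI : Subsingleton (Dual.HD A K (i + 1)) := ModuleCat.subsingleton_of_isZero h1
  haveI : Subsingleton (Dual.HD A K i) := ModuleCat.subsingleton_of_isZero h0
  haveI : Subsingleton (Dual.HD A Z i) := by
    refine ⟨fun z z' => ?_⟩
    obtain ⟨y, hy⟩ := cone_exact₃ hT i (i + 1) rfl z
      (Subsingleton.elim (α := Dual.HD A K (i + 1)) _ _)
    obtain ⟨y', hy'⟩ := cone_exact₃ hT i (i + 1) rfl z'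
      (Subsingleton.elim (α := Dual.HD A K (i + 1)) _ _)
    rw [← hy, ← hy', Subsingleton.elim y y']
  exact ModuleCat.isZero_of_subsingleton _

theorem cone_finite (hK : ∀ i : ℤ, Module.Finite A (Dual.HD A K i)) (i : ℤ) :
    Module.Finite A (Dual.HD A Z i) := by
  have hex := (HomologySequence.exact₃ _ hT i (i + 1) rfl).moduleCat_range_eq_ker
  haveI := hK i
  haveI := hK (i + 1)
  haveI : IsNoetherian A (Dual.HD A K i) := isNoetherian_of_isNoetherianRing_of_finite A _
  haveI : IsNoetherian A (Dual.HD A K (i + 1)) := isNoetherian_of_isNoetherianRing_of_finite A _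
  let φ : Dual.HD A K i →ₗ[A] Dual.HD A Z i := ((homologyFunctor (ModuleCat.{u} A) i).map g).hom
  let d : Dual.HD A Z i →ₗ[A] Dual.HD A K (i + 1) :=
    (HomologySequence.δ (Triangle.mk (f • 𝟙 K) g h) i (i + 1) rfl).hom
  have hex' : LinearMap.range φ = LinearMap.ker d := hex
  haveI : IsNoetherian A (Dual.HD A Z i) := isNoetherian_of_range_eq_ker φ d hex'
  infer_instance

theorem cone_bottom_killed (a : ℤ) [K.IsGE a] (J₀ : Ideal A)
    (hf : ∀ m : Dual.HD A K a, f • m = 0 → ∀ b ∈ J₀, b • m = 0) :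
    ∀ b ∈ J₀, ∀ z : Dual.HD A Z (a - 1), b • z = 0 := by
  intro b hb z
  have h0 : IsZero ((homologyFunctor (ModuleCat.{u} A) (a - 1)).obj K) :=
    isZero_of_isGE K a (a - 1) (by omega)
  haveI : Subsingleton (Dual.HD A K (a - 1)) := ModuleCat.subsingleton_of_isZero h0
  let d : Dual.HD A Z (a - 1) →ₗ[A] Dual.HD A K a :=
    (HomologySequence.δ (Triangle.mk (f • 𝟙 K) g h) (a - 1) a (by omega)).hom
  have hinj : ∀ w : Dual.HD A Z (a - 1), d w = 0 → w = 0 := by
    intro w hw
    obtain ⟨y, hy⟩ := cone_exact₃ hT (a - 1) a (by omega) w hw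
    rw [← hy, Subsingleton.elim y 0, map_zero]
  apply hinj
  rw [d.map_smul]
  apply hf _ _ b hb
  have hc := HomologySequence.δ_comp (Triangle.mk (f • 𝟙 K) g h) hT (a - 1) a (by omega)
  have hc' := congrArg (fun F => F.hom z) hc
  simp only [ModuleCat.hom_comp, LinearMap.comp_apply, ModuleCat.hom_zero,
    LinearMap.zero_apply] at hc'
  rw [← homologyFunctor_map_smul_id_apply]
  exact hc'

end Groth.Agent.Lib.Helper39.HDT
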