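import Groth.Agent.Lib.Helper39.HDT.Basic

/-!
# Functoriality and exactness of `Dual2.HDT` (helper39)
-/

set_option autoImplicit false
universe u

namespace Groth.Agent.Lib.Helper39.HDT

open CategoryTheory CategoryTheory.Limits CategoryTheory.Pretriangulated DerivedCategory Opposite
open Groth.Agent.Lib.Helper39.HT Groth.Agent.Lib.Helper39.GMD.RepKill

attribute [local instance] HasDerivedCategory.standard

variable {A : Type u} [CommRing A] (T : Set (PrimeSpectrum A))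

/-- functoriality of `H^i_T` in the complex -/
noncomputable def map {K K' : Dual.D A} (g : K ⟶ K') (i : ℤ) :
    Dual2.HDT A T K i →ₗ[A] Dual2.HDT A T K' i :=
  (colimMap (Functor.whiskerLeft (Sd T).op ((linearYoneda A (Dual.D A)).map (g⟦i⟧')))).hom

theorem map_mk {K K' : Dual.D A} (g : K ⟶ K') (i : ℤ) (J : Idx T) (φ : (Sd T).obj J ⟶ K⟦i⟧) :
    map T g i (mk T J φ) = mk T J (φ ≫ g⟦i⟧') := by
  have h := ι_colimMap (Functor.whiskerLeft (Sd T).op
    ((linearYoneda A (Dual.D A)).map (g⟦i⟧'))) (op J)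
  have h' := congrArg (fun F => F.hom φ) h
  simp only [ModuleCat.hom_comp, LinearMap.comp_apply] at h'
  exact h'

theorem map_smul_id {K : Dual.D A} (f : A) (i : ℤ) (x : Dual2.HDT A T K i) :
    map T (f • 𝟙 K) i x = f • x := by
  obtain ⟨J, φ, rfl⟩ := exists_rep T x
  rw [map_mk, ← mk_smul]
  congr 1
  rw [Functor.map_smul, CategoryTheory.Functor.map_id, Linear.comp_smul, Category.comp_id]

theorem map_comp_apply {K K' K'' : Dual.D A} (g : K ⟶ K') (g' : K' ⟶ K'') (i : ℤ)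
    (x : Dual2.HDT A T K i) : map T (g ≫ g') i x = map T g' i (map T g i x) := by
  obtain ⟨J, φ, rfl⟩ := exists_rep T x
  rw [map_mk, map_mk, map_mk, Functor.map_comp, Category.assoc]

theorem map_id_apply {K : Dual.D A} (i : ℤ) (x : Dual2.HDT A T K i) : map T (𝟙 K) i x = x := by
  obtain ⟨J, φ, rfl⟩ := exists_rep T x
  rw [map_mk, CategoryTheory.Functor.map_id, Category.comp_id]

theorem map_zero_apply {K K' : Dual.D A} (i : ℤ) (x : Dual2.HDT A T K i) :
    map T (0 : K ⟶ K') i x = 0 := by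
  obtain ⟨J, φ, rfl⟩ := exists_rep T x
  rw [map_mk, Functor.map_zero, comp_zero, mk_zero]

/-- exactness in the middle of a distinguished triangle -/
theorem exact₂ (Tr : Triangle (Dual.D A)) (hT : Tr ∈ distTriang (Dual.D A)) (i : ℤ)
    (x : Dual2.HDT A T Tr.obj₂ i) (hx : map T Tr.mor₂ i x = 0) :
    ∃ y : Dual2.HDT A T Tr.obj₁ i, map T Tr.mor₁ i y = x := by
  obtain ⟨J, φ, rfl⟩ := exists_rep T x
  rw [map_mk, mk_eq_zero_iff] at hx
  obtain ⟨J', g, hg⟩ := hx
  obtain ⟨χ, hχ⟩ := exists_lift_shift Tr hT i ((Sd T).map g ≫ φ) (by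
    rw [Category.assoc]; exact hg)
  refine ⟨mk T J' χ, ?_⟩
  rw [map_mk, hχ, mk_map]

/-- exactness at the third vertex -/
theorem exact₃ (Tr : Triangle (Dual.D A)) (hT : Tr ∈ distTriang (Dual.D A)) (i : ℤ)
    (x : Dual2.HDT A T Tr.obj₃ i) (hx : map T Tr.mor₃ i x = 0) :
    ∃ y : Dual2.HDT A T Tr.obj₂ i, map T Tr.mor₂ i y = x :=
  exact₂ T Tr.rotate (rot_of_distTriang _ hT) i x hx

/-- isomorphic shifted objects have isomorphic `H_T` -/
noncomputable def congr {K K' : Dual.D A} {i i' : ℤ} (θ : K⟦i⟧ ≅ K'⟦i'⟧) :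
    Dual2.HDT A T K i ≃ₗ[A] Dual2.HDT A T K' i' :=
  (HasColimit.isoOfNatIso (Functor.isoWhiskerLeft (Sd T).op
    ((linearYoneda A (Dual.D A)).mapIso θ))).toLinearEquiv

/-- the shift comparison `H^i_T(K[1]) ≃ H^{i+1}_T(K)` -/
noncomputable def shiftEquiv (K : Dual.D A) (i i' : ℤ) (h : 1 + i = i') :
    Dual2.HDT A T (K⟦(1 : ℤ)⟧) i ≃ₗ[A] Dual2.HDT A T K i' :=
  congr T ((shiftFunctorAdd' (Dual.D A) 1 i i' h).app K).symm

/-- vanishing below the amplitude -/
theorem eq_zero_of_isGE (K : Dual.D A) (c : ℤ) [K.IsGE c] (i : ℤ) (hi : i < c)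
    (x : Dual2.HDT A T K i) : x = 0 := by
  obtain ⟨J, φ, rfl⟩ := exists_rep T x
  haveI : (K⟦i⟧).IsGE (c - i) := DerivedCategory.TStructure.t.isGE_shift K c i (c - i) (by lia)
  haveI : ((Sd T).obj J).IsLE 0 := by
    change ((singleFunctor (ModuleCat.{u} A) 0).obj (ModuleCat.of A (A ⧸ J.obj))).IsLE 0
    infer_instance
  have h0 : φ = 0 := DerivedCategory.TStructure.t.zero φ 0 (c - i) (by lia)
  rw [h0, mk_zero]

theorem subsingleton_of_isGE (K : Dual.D A) (c : ℤ) [K.IsGE c] (i : ℤ) (hi : i < c) :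
    Subsingleton (Dual2.HDT A T K i) :=
  ⟨fun x y => (eq_zero_of_isGE T K c i hi x).trans (eq_zero_of_isGE T K c i hi y).symm⟩

/-- every class is killed by some index ideal -/
theorem exists_idx_smul_eq_zero {K : Dual.D A} {i : ℤ} (x : Dual2.HDT A T K i) :
    ∃ J : Idx T, ∀ a ∈ J.obj, a • x = 0 := by
  obtain ⟨J, φ, rfl⟩ := exists_rep T x
  refine ⟨J, fun a ha => ?_⟩
  rw [← mk_smul]
  have h0 : a • 𝟙 (ModuleCat.of A (A ⧸ J.obj)) = 0 := by
    apply ModuleCat.hom_ext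
    apply LinearMap.ext
    intro y
    obtain ⟨r, rfl⟩ := Ideal.Quotient.mk_surjective y
    change a • (Ideal.Quotient.mk J.obj r) = 0
    rw [← Ideal.Quotient.mk_eq_mk, ← Submodule.Quotient.mk_smul, smul_eq_mul,
      Submodule.Quotient.mk_eq_zero]
    exact Ideal.mul_mem_right _ _ ha
  have h1 : a • 𝟙 ((Sd T).obj J) = 0 := by
    change a • 𝟙 ((singleFunctor (ModuleCat.{u} A) 0).obj (ModuleCat.of A (A ⧸ J.obj))) = 0
    rw [← (singleFunctor (ModuleCat.{u} A) 0).map_id, ← Functor.map_smul, h0, Functor.map_zero]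
  have h2 : a • φ = (a • 𝟙 ((Sd T).obj J)) ≫ φ := by
    rw [Linear.smul_comp, Category.id_comp]
  rw [h2, h1, zero_comp, mk_zero]

end Groth.Agent.Lib.Helper39.HDT
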