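import Groth.Agent.Lib.Helper39.HDT.Cone
import Groth.Agent.Lib.Helper39.HT.Main
import Groth.Agent.Lib.Helper84.Devissage

/-!
# Finiteness of `H^i_T(K)` iff annihilation by an ideal with `V(J) ⊆ T` (helper39)
-/

set_option autoImplicit false
universe u

namespace Groth.Agent.Lib.Helper39.HDT

open CategoryTheory CategoryTheory.Limits CategoryTheory.Pretriangulated CategoryTheory.Triangulated
open DerivedCategory Opposite
open Groth.Agent.Lib.Helper39.HT (Idx)
open Groth.Agent.Lib.Helper84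

attribute [local instance] HasDerivedCategory.standard

variable {A : Type u} [CommRing A] [IsNoetherianRing A] (T : Set (PrimeSpectrum A))

/-- transport along an isomorphism of objects -/
noncomputable def congrObj {K K' : Dual.D A} (e : K ≅ K') (i : ℤ) :
    Dual2.HDT A T K i ≃ₗ[A] Dual2.HDT A T K' i :=
  congr T ((shiftFunctor (Dual.D A) i).mapIso e)

theorem finite_of_triangle (Tr : Triangle (Dual.D A)) (hT : Tr ∈ distTriang (Dual.D A))
    (a' n' : ℤ) (N : ModuleCat.{u} A) [Module.Finite A N]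
    (eN : Tr.obj₁ ≅ (singleFunctor (ModuleCat.{u} A) a').obj N)
    (J₀ : Idx T) (hN : ∀ b ∈ J₀.obj, ∀ x : N, b • x = 0)
    (h₂ : Tr.obj₂.IsGE a') (h₃ : Tr.obj₃.IsGE (a' + 1)) (J' : Idx T)
    (hJ' : ∀ j ≤ n', ∀ b ∈ J'.obj, ∀ x : Dual2.HDT A T Tr.obj₂ j, b • x = 0)
    (hfin₃ : (∀ j ≤ n', ∀ b ∈ J'.obj, ∀ x : Dual2.HDT A T Tr.obj₃ j, b • x = 0) →
      ∀ j ≤ n', Module.Finite A (Dual2.HDT A T Tr.obj₃ j)) :
    ∀ j ≤ n', Module.Finite A (Dual2.HDT A T Tr.obj₂ j) := by
  have hX₁sub : ∀ j, a' < j → Subsingleton (Dual2.HDT A T Tr.obj₁ j) := fun j hj => by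
    haveI := subsingleton_single_of_killed T N J₀ hN a' j hj
    exact (congrObj T eN j).toEquiv.subsingleton
  have hX₁fin : Module.Finite A (Dual2.HDT A T Tr.obj₁ a') := by
    haveI := finite_single T N a'
    exact Module.Finite.equiv (congrObj T eN a').symm
  have hX₁sh : ∀ j, a' ≤ j → Subsingleton (Dual2.HDT A T (Tr.obj₁⟦(1 : ℤ)⟧) j) := fun j hj => by
    haveI := hX₁sub (j + 1) (by omega)
    exact (shiftEquiv T Tr.obj₁ j (j + 1) (by omega)).toEquiv.subsingleton
  have h3kill : ∀ j ≤ n', ∀ b ∈ J'.obj, ∀ x : Dual2.HDT A T Tr.obj₃ j, b • x = 0 := by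
    intro j hj b hb x
    by_cases hja : j < a' + 1
    · rw [eq_zero_of_isGE T Tr.obj₃ (a' + 1) j hja x, smul_zero]
    · haveI := hX₁sh j (by omega)
      obtain ⟨y, rfl⟩ := exact₃ T Tr hT j x (Subsingleton.elim _ _)
      rw [← map_smul, hJ' j hj b hb y, map_zero]
  have hfin := hfin₃ h3kill
  intro j hj
  rcases lt_trichotomy j a' with h | h | h
  · haveI := subsingleton_of_isGE T Tr.obj₂ a' j h
    infer_instance
  · subst h
    have hsurj : Function.Surjective (map T Tr.mor₁ j) := fun x =>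
      exact₂ T Tr hT j x (eq_zero_of_isGE T Tr.obj₃ (j + 1) j (by omega) _)
    exact Module.Finite.of_surjective _ hsurj
  · haveI := hfin j hj
    haveI : IsNoetherian A (Dual2.HDT A T Tr.obj₃ j) :=
      isNoetherian_of_isNoetherianRing_of_finite A _
    have hinj : Function.Injective (map T Tr.mor₂ j) := by
      rw [injective_iff_map_eq_zero]
      intro x hx
      obtain ⟨y, rfl⟩ := exact₂ T Tr hT j x hx
      haveI := hX₁sub j h
      rw [Subsingleton.elim y 0, map_zero]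
    exact Module.Finite.of_injective _ hinj

/-- the induction hypothesis -/
def FinProp (m : ℕ) : Prop :=
  ∀ (K : Dual.D A) (a n : ℤ), n + 1 - a ≤ m → K.IsGE a →
    (∀ i : ℤ, Module.Finite A (Dual.HD A K i)) →
    ∀ J : Idx T, (∀ i ≤ n, ∀ b ∈ J.obj, ∀ x : Dual2.HDT A T K i, b • x = 0) →
    ∀ i ≤ n, Module.Finite A (Dual2.HDT A T K i)

theorem finProp_zero : FinProp T 0 := by
  intro K a n hm hGE _ J _ i hi
  haveI := hGE
  haveI := subsingleton_of_isGE T K a i (by omega)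
  infer_instance

theorem trunc_step (m : ℕ) (ih : FinProp T m) (C : Dual.D A) (a' n' : ℤ)
    (hm : n' + 1 - (a' + 1) ≤ m) (hGE : C.IsGE a')
    (hCfin : ∀ i : ℤ, Module.Finite A (Dual.HD A C i)) (J₀ : Idx T)
    (hbot : ∀ b ∈ J₀.obj, ∀ z : Dual.HD A C a', b • z = 0) (J' : Idx T)
    (hJ' : ∀ j ≤ n', ∀ b ∈ J'.obj, ∀ x : Dual2.HDT A T C j, b • x = 0) :
    ∀ j ≤ n', Module.Finite A (Dual2.HDT A T C j) := by
  haveI := hGE
  let t : TStructure (Dual.D A) := TStructure.t
  have hT := t.triangleLTGE_distinguished (a' + 1) C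
  have hA1 : t.IsLE ((t.truncLT (a' + 1)).obj C) a' := t.isLE_truncLT_obj C (a' + 1) a'
  have hA2 : t.IsGE ((t.truncLT (a' + 1)).obj C) a' := inferInstance
  obtain ⟨N, ⟨eN⟩⟩ :=
    exists_iso_singleFunctor_obj_of_isGE_of_isLE ((t.truncLT (a' + 1)).obj C) a'
  have := DerivedT.isIso_homologyMap_truncLTι C (a' + 1) a' (by lia)
  have e1 : (homologyFunctor (ModuleCat.{u} A) a').obj C ≅ N :=
    (asIso ((homologyFunctor (ModuleCat.{u} A) a').map ((t.truncLTι (a' + 1)).app C))).symm ≪≫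
      (homologyFunctor (ModuleCat.{u} A) a').mapIso eN ≪≫
      (singleFunctorCompHomologyFunctorIso (ModuleCat.{u} A) a').app N
  haveI := hCfin a'
  haveI : Module.Finite A N := Module.Finite.equiv e1.toLinearEquiv
  have hN : ∀ b ∈ J₀.obj, ∀ x : N, b • x = 0 := by
    intro b hb x
    obtain ⟨z, rfl⟩ := e1.toLinearEquiv.surjective x
    rw [← map_smul, hbot b hb z, map_zero]
  have hB1 : t.IsGE ((t.truncGE (a' + 1)).obj C) (a' + 1) := inferInstance
  have hC₁fin : ∀ i : ℤ, Module.Finite A (Dual.HD A ((t.truncGE (a' + 1)).obj C) i) := by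
    intro i
    by_cases hi : a' + 1 ≤ i
    · have := DerivedT.isIso_homologyMap_truncGEπ C (a' + 1) i hi
      haveI := hCfin i
      let E : Dual.HD A C i ≃ₗ[A] Dual.HD A ((t.truncGE (a' + 1)).obj C) i :=
        (asIso ((homologyFunctor (ModuleCat.{u} A) i).map
          ((t.truncGEπ (a' + 1)).app C))).toLinearEquiv
      exact Module.Finite.equiv E
    · haveI : Subsingleton (Dual.HD A ((t.truncGE (a' + 1)).obj C) i) :=
        ModuleCat.subsingleton_of_isZero (isZero_of_isGE _ (a' + 1) i (by omega))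
      infer_instance
  exact finite_of_triangle T _ hT a' n' N eN J₀ hN hGE hB1 J' hJ'
    (fun h3 => ih _ (a' + 1) n' hm hB1 hC₁fin J' h3)

theorem finProp_succ (hT : StableUnderSpecialization T) (m : ℕ) (ih : FinProp T m) :
    FinProp T (m + 1) := by
  intro K a n hm hGE hKfin J hJ
  haveI := hGE
  haveI := hKfin a
  obtain ⟨J₀, hJ₀⟩ := Groth.Agent.Lib.Helper39.HT.exists_idx_kills_torsionSub T (Dual.HD A K a)
  obtain ⟨f, hfJ, hfreg⟩ := Groth.Agent.Lib.Helper39.HT.exists_regular T hT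
    (Dual.HD A K a ⧸ Groth.Agent.Lib.Helper39.HT.torsionSub T (Dual.HD A K a))
    (Groth.Agent.Lib.Helper39.HT.quotient_torsionFree T _) J
  have hf : ∀ m : Dual.HD A K a, f • m = 0 → ∀ b ∈ J₀.obj, b • m = 0 := by
    intro m hm0 b hb
    have h1 : (Submodule.Quotient.mk m :
        Dual.HD A K a ⧸ Groth.Agent.Lib.Helper39.HT.torsionSub T (Dual.HD A K a)) = 0 := by
      apply hfreg
      change f • _ = f • _
      rw [← Submodule.Quotient.mk_smul, hm0, smul_zero, Submodule.Quotient.mk_zero]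
    rw [Submodule.Quotient.mk_eq_zero] at h1
    exact congrArg Subtype.val (hJ₀ b hb ⟨m, h1⟩)
  obtain ⟨Z, g, h, hTr⟩ := distinguished_cocone_triangle (f • 𝟙 K)
  have hZGE : Z.IsGE (a - 1) := cone_isGE hTr a
  have hZfin := cone_finite hTr hKfin
  have hZbot := cone_bottom_killed hTr a J₀.obj hf
  have hJsh : ∀ j ≤ n - 1, ∀ b ∈ J.obj, ∀ x : Dual2.HDT A T (K⟦(1 : ℤ)⟧) j, b • x = 0 := by
    intro j hj b hb x
    apply (shiftEquiv T K j (j + 1) (by omega)).injective
    rw [map_smul, map_zero]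
    exact hJ (j + 1) (by omega) b hb _
  have hZkill : ∀ j ≤ n - 1, ∀ c ∈ (Idx.mul J J).obj, ∀ x : Dual2.HDT A T Z j, c • x = 0 := by
    intro j hj c hc x
    have hle : J.obj * J.obj ≤ LinearMap.ker (LinearMap.toSpanSingleton A _ x) := by
      rw [Ideal.mul_le]
      intro a₁ ha₁ b hb
      rw [LinearMap.mem_ker, LinearMap.toSpanSingleton_apply, mul_smul]
      have h1 : map T h j (b • x) = 0 := by
        rw [map_smul]
        exact hJsh j hj b hb _
      obtain ⟨y, hy⟩ := exact₃ T (Triangle.mk (f • 𝟙 K) g h) hTr j (b • x) h1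
      have hy' : map T g j y = b • x := hy
      rw [← hy', ← map_smul, hJ j (by omega) a₁ ha₁ y, map_zero]
    have := hle hc
    rwa [LinearMap.mem_ker, LinearMap.toSpanSingleton_apply] at this
  have hZ : ∀ j ≤ n - 1, Module.Finite A (Dual2.HDT A T Z j) :=
    trunc_step T m ih Z (a - 1) (n - 1) (by omega) hZGE hZfin J₀ hZbot (Idx.mul J J) hZkill
  intro i hi
  have hsurj : Function.Surjective (map T h (i - 1)) := by
    intro x
    have hx : map T (Triangle.mk (f • 𝟙 K) g h).rotate.mor₃ (i - 1) x = 0 := by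
      change map T (-(f • 𝟙 K)⟦(1 : ℤ)⟧') (i - 1) x = 0
      have h0 : (-(f • 𝟙 K)⟦(1 : ℤ)⟧' : K⟦(1 : ℤ)⟧ ⟶ K⟦(1 : ℤ)⟧) = (-f) • 𝟙 (K⟦(1 : ℤ)⟧) := by
        rw [Functor.map_smul, CategoryTheory.Functor.map_id, neg_smul]
      rw [h0, map_smul_id, neg_smul, hJsh (i - 1) (by omega) f hfJ x, neg_zero]
    exact exact₃ T (Triangle.mk (f • 𝟙 K) g h).rotate (rot_of_distTriang _ hTr) (i - 1) x hx
  haveI := hZ (i - 1) (by omega)
  haveI : Module.Finite A (Dual2.HDT A T (K⟦(1 : ℤ)⟧) (i - 1)) :=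
    Module.Finite.of_surjective _ hsurj
  exact Module.Finite.equiv (shiftEquiv T K (i - 1) i (by omega))

theorem finProp (hT : StableUnderSpecialization T) (m : ℕ) : FinProp T m := by
  induction m with
  | zero => exact finProp_zero T
  | succ m ih => exact finProp_succ T hT m ih

end Groth.Agent.Lib.Helper39.HDT
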