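import Groth.Agent.Lib.Helper39.HDT.Bridge

/-!
# `H^j_T` of a module placed in a single degree (helper39)
-/

set_option autoImplicit false
universe u

namespace Groth.Agent.Lib.Helper39.HDT

open CategoryTheory CategoryTheory.Limits DerivedCategory Opposite
open Groth.Agent.Lib.Helper39.HT (Idx Q proj HTf)

attribute [local instance] HasDerivedCategory.standard

variable {A : Type u} [CommRing A] (T : Set (PrimeSpectrum A))

/-- `H^j_T(N[-b]) ≃ H^{j-b}_T(N[0])` -/
noncomputable def singleEquiv (N : ModuleCat.{u} A) (b j : ℤ) (m : ℕ) (hm : (m : ℤ) = j - b) :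
    Dual2.HDT A T ((singleFunctor (ModuleCat.{u} A) b).obj N) j ≃ₗ[A]
      Dual2.HDT A T ((singleFunctor (ModuleCat.{u} A) 0).obj N) m :=
  let e0 : ((singleFunctor (ModuleCat.{u} A) 0).obj N)⟦-b⟧ ≅
      (singleFunctor (ModuleCat.{u} A) b).obj N :=
    ((singleFunctors (ModuleCat.{u} A)).shiftIso (-b) b 0 (by lia)).app N
  congr T ((shiftFunctor (Dual.D A) j).mapIso e0.symm ≪≫
      ((shiftFunctorAdd' (Dual.D A) (-b) j (m : ℤ) (by omega)).app _).symm)

variable [IsNoetherianRing A]

/-- vanishing of the higher `H_T` of a module killed by an index ideal -/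
theorem subsingleton_single_of_killed (N : ModuleCat.{u} A) (J₁ : Idx T)
    (hN : ∀ a ∈ J₁.obj, ∀ x : N, a • x = 0) (b j : ℤ) (hj : b < j) :
    Subsingleton (Dual2.HDT A T ((singleFunctor (ModuleCat.{u} A) b).obj N) j) := by
  obtain ⟨m, hm⟩ : ∃ m : ℕ, ((m + 1 : ℕ) : ℤ) = j - b :=
    ⟨(j - b - 1).toNat, by
      have := Int.toNat_of_nonneg (show 0 ≤ j - b - 1 by omega)
      push_cast
      omega⟩
  have h0 : ∀ y : (HTf T (m + 1)).obj N, y = 0 := fun y =>
    Groth.Agent.Lib.Helper39.HT.eq_zero_of_killed T N J₁ hN m y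
  refine ⟨fun x y => ?_⟩
  apply (singleEquiv T N b j (m + 1) hm).injective
  apply cmp_injective T (m + 1) N
  rw [h0 (cmp T (m + 1) N _), h0 (cmp T (m + 1) N _)]

/-- finiteness of `H^b_T(N[-b])` for a finite module `N` -/
theorem finite_single (N : ModuleCat.{u} A) [Module.Finite A N] (b : ℤ) :
    Module.Finite A (Dual2.HDT A T ((singleFunctor (ModuleCat.{u} A) b).obj N) b) := by
  let g : Dual2.HDT A T ((singleFunctor (ModuleCat.{u} A) b).obj N) b →ₗ[A] N :=
    Groth.Agent.Lib.Helper39.HT.γ T (M := N) ∘ₗ cmp T 0 N ∘ₗ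
      (singleEquiv T N b b 0 (by simp)).toLinearMap
  have hg : Function.Injective g :=
    (Groth.Agent.Lib.Helper39.HT.γ_injective T).comp
      ((cmp_injective T 0 N).comp (singleEquiv T N b b 0 (by simp)).injective)
  exact Module.Finite.of_injective g hg

end Groth.Agent.Lib.Helper39.HDT
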